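import Cfsg.Agent.Omega.NO3b.K0.Abs

/-!
# THEOREM K0: the bridge to the abstract FF theorem, part 2

* `cnoOver` : `|Ā| ≤ |V : C_V(Ā)|` for the elementary abelian 2-subgroups `Ā` in the situation `FFBr.Abs`;
* `noOv` : `FFBr.AStmt` implies `NoOv X` for a minimal parabolic `X`.
-/

set_option autoImplicit false

namespace Cfsg.Agent.Omega.NO3b.K0

open Subgroup Cfsg Cfsg.Agent.ZN Cfsg.Agent.ZN.ChoiceBase Cfsg.Agent.ZN.ChoiceSit
open Cfsg.Agent.MinSimple.MinParabolic (IsMinPar IsMin sup_eq_top_or_inf_le)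
open Cfsg.Agent.MinSimple.VModule (oddGen oddGen_le mem_oddGen le_normalizer_oddGen oddGen_le_of_sup)
open scoped commutatorElement

universe u

/-- no over-offenders, also if there are no offenders at all -/
theorem cnoOver (h : FFBr.AStmt.{u}) {X V : Type u} [Group X] [Finite X] [Group V] [Finite V]
    [MulDistribMulAction X V] {T : Sylow 2 X} {M : Subgroup X} (habs : FFBr.Abs X V T M) : FFBr.ANoOver X V := by
  by_cases h1 : ∃ A : Subgroup X, FFBr.AOff V A
  · exact (h X V T M habs h1).1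
  · intro A hc hs
    by_contra hcon
    rw [not_le] at hcon
    apply h1
    refine ⟨A, hc, hs, ?_, hcon.le⟩
    rintro rfl
    rw [card_bot] at hcon
    exact absurd (Nat.lt_one_iff.1 hcon) (FiniteIndex.index_ne_zero)

variable {G : Type u} [Group G] [Finite G] {X : Subgroup G}

/-- **(K0b), the weak form of the FF theorem gives `NoOv`** -/
theorem noOv (h : FFBr.AStmt.{u}) {T : Subgroup G} (hT : Syl T X) (hmin : IsMinPar T X) : NoOv X := by
  have hfact : Fact (Nat.Prime 2) := ⟨Nat.prime_two⟩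
  intro N Y A D hNY hYX hsq hc hN hY chief hmv hAX hA2 hAc hDY hDA
  have hn : (N.subgroupOf Y).Normal := normal_subgroupOf_of_le_normalizer (hYX.trans hN)
  obtain ⟨S, M, habs⟩ := cabs hT hmin hNY hsq hc hN hY chief hmv
  set K : Subgroup G := (cpr hN hY).ker.map X.subtype with hK
  have hKX : K ≤ X := map_subtype_le _
  have hmemK : ∀ x : X, (x : G) ∈ K ↔ cpr hN hY x = 1 := by
    intro x
    constructor
    · rintro ⟨x', hx', hxx⟩
      have : x' = x := Subtype.ext hxx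
      rw [← this]
      exact hx'
    · intro hx
      exact ⟨x, hx, rfl⟩
  -- `O₂(X)` acts trivially
  have ho2 : o2 X ≤ K := by
    have h1 : (pCore 2 X).map (cpr hN hY) = ⊥ :=
      habs.core _ (Normal.map inferInstance _ (cpr_surjective hN hY)) ((isPGroup_pCore 2).map _)
    exact map_mono ((map_eq_bot_iff (f := cpr hN hY) _).1 h1)
  have hKn : X ≤ normalizer (K : Set G) := by
    have key : ∀ x ∈ X, ∀ k ∈ K, x * k * x⁻¹ ∈ K := by
      intro x hx k hk
      have h1 := (hmemK ⟨k, hKX hk⟩).1 hk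
      refine (hmemK (⟨x, hx⟩ * ⟨k, hKX hk⟩ * ⟨x, hx⟩⁻¹)).2 ?_
      rw [map_mul, map_mul, map_inv, h1, mul_one, mul_inv_cancel]
    intro x hx
    rw [mem_normalizer_iff]
    intro k
    refine ⟨key x hx k, fun hk => ?_⟩
    have h3 := key x⁻¹ (inv_mem hx) _ hk
    rw [inv_inv] at h3
    have h4 : x⁻¹ * (x * k * x⁻¹) * x = k := by group
    rwa [h4] at h3
  -- `T ∩ K ≤ O₂(X)`
  have hKT : T ⊓ K ≤ o2 X := by
    rcases hmin.sup_eq_or_inf_le hT.2.1 (syl_not_dvd hT) hKX hKn with h1 | h1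
    · exfalso
      apply hmv
      have h2 : oddGen X ≤ K := oddGen_le_of_sup hKn h1.ge hT.1 hKX hT.2.1
      rw [commutator_le]
      intro y hy g hg
      exact (cpr_eq_one hc hN hY (x := ⟨g, hKX (h2 hg)⟩)).1 ((hmemK _).1 (h2 hg)) y hy
    · exact h1
  -- `A ∩ K ≤ O₂(X)`
  have hAK : A ⊓ K ≤ o2 X := by
    intro a ha
    have h1 : IsPGroup 2 (zpowers a) := by
      obtain ⟨n, hn⟩ := ChoiceSit.isPGroup_o2 X ⟨a ^ 2, hA2 a ha.1⟩
      have hn' : (a ^ 2) ^ 2 ^ n = 1 := congrArg Subtype.val hn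
      rw [← pow_mul, ← pow_succ'] at hn'
      intro z
      obtain ⟨z, hz⟩ := z
      obtain ⟨k, rfl⟩ := mem_zpowers_iff.1 hz
      refine ⟨n + 1, Subtype.ext ?_⟩
      show (a ^ k) ^ 2 ^ (n + 1) = 1
      rw [← zpow_natCast, ← zpow_mul, mul_comm, zpow_mul, zpow_natCast, hn', one_zpow]
    exact le_o2_of_inf hT hKn hKT h1 (zpowers_le.2 (hAX ha.1)) (zpowers_le.2 ha.2) (mem_zpowers a)
  -- the image of `A`
  set A' : Subgroup (CX hN hY) := (A.subgroupOf X).map (cpr hN hY) with hA'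
  have h1 : ∀ a ∈ A', ∀ b ∈ A', a * b = b * a := by
    rintro _ ⟨a, ha, rfl⟩ _ ⟨b, hb, rfl⟩
    have h2 : cpr hN hY (a * b * a⁻¹ * b⁻¹) = 1 :=
      (hmemK _).1 (ho2 (hAc a (mem_subgroupOf.1 ha) b (mem_subgroupOf.1 hb)))
    rw [map_mul, map_mul, map_mul, map_inv, map_inv, mul_inv_eq_one, mul_inv_eq_iff_eq_mul] at h2
    exact h2
  have h2 : ∀ a ∈ A', a * a = 1 := by
    rintro _ ⟨a, ha, rfl⟩
    have h2 : cpr hN hY (a ^ 2) = 1 := (hmemK _).1 (ho2 (hA2 a (mem_subgroupOf.1 ha)))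
    rwa [pow_two, map_mul] at h2
  have h3 := cnoOver h habs A' h1 h2
  -- `|A : A ∩ O₂(X)| ≤ |A'|`
  have h4 : (o2 X).relIndex A ≤ Nat.card A' := by
    have h5 : K.relIndex A = Nat.card A' := by
      have h6 : K.relIndex A = (cpr hN hY).ker.relIndex (A.subgroupOf X) := by
        have h7 := relIndex_map_map_of_injective (cpr hN hY).ker (A.subgroupOf X) X.subtype_injective
        rw [subgroupOf_map_subtype, inf_eq_left.2 hAX] at h7
        exact h7
      rw [h6, relIndex_ker]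
    rw [← h5, ← inf_relIndex_left A K]
    refine Nat.le_of_dvd (Nat.pos_of_ne_zero ?_) (relIndex_dvd_of_le_left A hAK)
    exact FiniteIndex.index_ne_zero (H := (A ⊓ K).subgroupOf A)
  -- `|V : C_V(A')| ≤ |Y : D|`
  have h5 : (ClassTwoFusion.Quad.cv (Y ⧸ N.subgroupOf Y) (A' : Set (CX hN hY))).index ≤ D.relIndex Y := by
    have h6 : (D.subgroupOf Y).map (QuotientGroup.mk' (N.subgroupOf Y)) ≤
        ClassTwoFusion.Quad.cv (Y ⧸ N.subgroupOf Y) (A' : Set (CX hN hY)) := by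
      rintro _ ⟨y, hy, rfl⟩ _ ⟨a, ha, rfl⟩
      exact (cpr_smul_eq_iff hc hN hY).2
        (hDA (commutator_mem_commutator (mem_subgroupOf.1 hy) (mem_subgroupOf.1 ha)))
    refine (index_antitone h6).trans (Nat.le_of_dvd (Nat.pos_of_ne_zero
      (FiniteIndex.index_ne_zero (H := D.subgroupOf Y))) ?_)
    exact index_map_dvd _ (QuotientGroup.mk'_surjective _)
  exact h4.trans (h3.trans h5)

end Cfsg.Agent.Omega.NO3b.K0
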