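import Cfsg.Agent.Omega.NO3b.EndFix

/-!
# THEOREM K0, section 6 for a module `U` with a central part `D`

`X` acts on the elementary abelian 2-group `U`, `D < U` is `X`-invariant, centralised by the elements of odd order
and contains all proper `X`-invariant subgroups; `X` is faithful on `U / D`, its Sylow 2-subgroup `T` lies in the
unique maximal subgroup `M` over it. If an elementary abelian group `A ≤ T` satisfies `|U : C_U(A)| ≤ |A|` and
`C_U(A)` is the full preimage of `C_{U/D}(A)`, then `T` fixes an element of `U` outside `D`.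
-/

set_option autoImplicit false
set_option linter.unusedSectionVars false

namespace Cfsg.Agent.Omega.NO3b.EndFix

open Subgroup Cfsg.Agent.Omega.FFBr

universe u

section act

variable {X U : Type*} [Group X] [Group U] [MulDistribMulAction X U]

/-- the action on `U / D` -/
abbrev quotAct (D : Subgroup U) [D.Normal] (hD : ∀ x : X, ∀ d ∈ D, x • d ∈ D) : MulDistribMulAction X (U ⧸ D) where
  smul x := QuotientGroup.map D D (MulDistribMulAction.toMonoidHom U x) fun d hd => hD x d hd
  one_smul q := by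
    obtain ⟨u, rfl⟩ := QuotientGroup.mk_surjective q
    exact congrArg (QuotientGroup.mk (s := D)) (one_smul X u)
  mul_smul x y q := by
    obtain ⟨u, rfl⟩ := QuotientGroup.mk_surjective q
    exact congrArg (QuotientGroup.mk (s := D)) (mul_smul x y u)
  smul_mul x p q := map_mul (QuotientGroup.map D D (MulDistribMulAction.toMonoidHom U x) fun d hd => hD x d hd) p q
  smul_one x := map_one (QuotientGroup.map D D (MulDistribMulAction.toMonoidHom U x) fun d hd => hD x d hd)

end act

variable {X U : Type u} [Group X] [Finite X] [Group U] [Finite U] [MulDistribMulAction X U]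

/-- **THEOREM K0, section 6.** -/
theorem exists_fix_of (hA : AStmt.{u}) (hcom : ∀ u w : U, u * w = w * u) (hsq : ∀ u : U, u * u = 1)
    {D : Subgroup U} (hD : ∀ x : X, ∀ d ∈ D, x • d ∈ D)
    (hDo : ∀ d ∈ D, ∀ x : X, Odd (orderOf x) → x • d = d) (hDne : D ≠ ⊤)
    (irr : ∀ K : Subgroup U, (∀ x : X, ∀ u ∈ K, x • u ∈ K) → K ≠ ⊤ → K ≤ D)
    (faith : ∀ x : X, (∀ u : U, (x • u) * u⁻¹ ∈ D) → x = 1) {T : Sylow 2 X} {M : Subgroup X}
    (hTM : (T : Subgroup X) ≤ M) (hM : M ≠ ⊤) (hmax : ∀ K : Subgroup X, (T : Subgroup X) ≤ K → K ≤ M ∨ K = ⊤)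
    {A : Subgroup X} (hAT : A ≤ T) (hAc : ∀ a ∈ A, ∀ b ∈ A, a * b = b * a) (hA2 : ∀ a ∈ A, a * a = 1)
    (hAne : A ≠ ⊥) (hle : (ClassTwoFusion.Quad.cv U (A : Set X)).index ≤ Nat.card A)
    (full : ∀ u : U, (∀ a ∈ A, (a • u) * u⁻¹ ∈ D) → ∀ a ∈ A, a • u = u) :
    ∃ u, (∀ t ∈ T, t • u = u) ∧ u ∉ D := by
  have hf : Fact (Nat.Prime 2) := ⟨Nat.prime_two⟩
  have hDn : D.Normal := ⟨fun d hd g => by rw [hcom g d, mul_inv_cancel_right]; exact hd⟩
  let _ : MulDistribMulAction X (U ⧸ D) := quotAct D hD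
  have hsm : ∀ (x : X) (u : U), x • (QuotientGroup.mk u : U ⧸ D) = QuotientGroup.mk (x • u) := fun _ _ => rfl
  have hfixq : ∀ (x : X) (u : U), x • (QuotientGroup.mk u : U ⧸ D) = QuotientGroup.mk u ↔ (x • u) * u⁻¹ ∈ D := by
    intro x u
    rw [hsm, QuotientGroup.eq, hcom (x • u)⁻¹ u]
    constructor
    · intro h
      have := D.inv_mem h
      rwa [mul_inv_rev, inv_inv] at this
    · intro h
      have := D.inv_mem h
      rwa [mul_inv_rev, inv_inv] at this
  have hpU : IsPGroup 2 U := fun u => ⟨1, by rw [pow_one, pow_two]; exact hsq u⟩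
  have hpV : IsPGroup 2 (U ⧸ D) := hpU.to_quotient D
  have hfaith : ∀ x : X, (∀ v : U ⧸ D, x • v = v) → x = 1 := fun x hx =>
    faith x fun u => (hfixq x u).1 (hx _)
  -- invariant subgroups of the quotient
  have hinv : ∀ W : Subgroup (U ⧸ D), (∀ x : X, ∀ w ∈ W, x • w ∈ W) → W ≠ ⊥ → W = ⊤ := by
    intro W hW hne
    by_contra htop
    apply hne
    have h1 : W.comap (QuotientGroup.mk' D) ≤ D := by
      refine irr _ (fun x u hu => ?_) ?_
      · rw [mem_comap] at hu ⊢
        exact hW x _ hu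
      · intro h0
        apply htop
        rw [← map_comap_eq_self_of_surjective (QuotientGroup.mk'_surjective D) W, h0,
          map_top_of_surjective _ (QuotientGroup.mk'_surjective D)]
    rw [eq_bot_iff]
    intro w hw
    obtain ⟨u, rfl⟩ := QuotientGroup.mk_surjective w
    have h2 : u ∈ D := h1 (by rw [mem_comap]; exact hw)
    rw [mem_bot]
    exact (QuotientGroup.eq_one_iff u).2 h2
  have hVne : (⊤ : Subgroup (U ⧸ D)) ≠ ⊥ := by
    intro h0
    apply hDne
    rw [eq_top_iff]
    intro u _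
    have h1 : (QuotientGroup.mk u : U ⧸ D) ∈ (⊤ : Subgroup (U ⧸ D)) := mem_top _
    rw [h0, mem_bot] at h1
    exact (QuotientGroup.eq_one_iff u).1 h1
  -- a subgroup acting trivially is trivial
  have htriv : ∀ N : Subgroup X, (∀ x ∈ N, ∀ v : U ⧸ D, x • v = v) → N = ⊥ := fun N hN =>
    (Subgroup.eq_bot_iff_forall N).2 fun x hx => hfaith x (hN x hx)
  have hXne : ∃ x : X, x ≠ 1 := by
    by_contra hcon
    push Not at hcon
    apply hM
    rw [eq_top_iff]
    intro x _
    rw [hcon x]
    exact one_mem _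
  have habs : Abs X (U ⧸ D) T M := by
    refine ⟨?_, ?_, hfaith, ?_, hTM, hM, hmax, ?_, ?_⟩
    · intro v w
      obtain ⟨a, rfl⟩ := QuotientGroup.mk_surjective v
      obtain ⟨b, rfl⟩ := QuotientGroup.mk_surjective w
      exact congrArg (QuotientGroup.mk (s := D)) (hcom a b)
    · intro v
      obtain ⟨a, rfl⟩ := QuotientGroup.mk_surjective v
      exact congrArg (QuotientGroup.mk (s := D)) (hsq a)
    · intro N hN hN2
      obtain ⟨d, -, hd1, hd⟩ := exists_fixed (U := U ⧸ D) hN2 hpV hVne fun _ _ _ _ => mem_top _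
      have h1 : ClassTwoFusion.Quad.cv (U ⧸ D) (N : Set X) = ⊤ := by
        refine hinv _ (fun x w hw a ha => ?_) fun h0 => hd1 ?_
        · have h2 := hw (x⁻¹ * a * x) (by
            have := hN.conj_mem a ha x⁻¹
            rwa [inv_inv] at this)
          rw [mul_smul, mul_smul, inv_smul_eq_iff] at h2
          exact h2
        · have h2 : d ∈ ClassTwoFusion.Quad.cv (U ⧸ D) (N : Set X) := hd
          rw [h0, mem_bot] at h2
          exact h2
      refine htriv N fun x hx v => ?_
      have h2 : v ∈ ClassTwoFusion.Quad.cv (U ⧸ D) (N : Set X) := by rw [h1]; exact mem_top _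
      exact h2 x hx
    · intro W hW
      obtain ⟨d, -, hd1, hd⟩ := exists_fixed (U := U ⧸ D) T.isPGroup' hpV hVne fun _ _ _ _ => mem_top _
      have h1 : closure {w : U ⧸ D | ∃ x : X, ∃ v : U ⧸ D, (∀ t ∈ T, t • v = v) ∧ w = x • v} = ⊤ := by
        refine hinv _ (fun x w hw => ?_) fun h0 => hd1 ?_
        · induction hw using closure_induction with
          | mem w hw =>
            obtain ⟨y, v, hv, rfl⟩ := hw
            exact subset_closure ⟨x * y, v, hv, by rw [mul_smul]⟩
          | one => rw [smul_one]; exact one_mem _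
          | mul a b _ _ ha hb => rw [smul_mul']; exact mul_mem ha hb
          | inv a _ ha => rw [smul_inv']; exact inv_mem ha
        · have h2 : d ∈ closure {w : U ⧸ D | ∃ x : X, ∃ v : U ⧸ D, (∀ t ∈ T, t • v = v) ∧ w = x • v} :=
            subset_closure ⟨1, d, hd, (one_smul X d).symm⟩
          rw [h0, mem_bot] at h2
          exact h2
      rw [eq_top_iff, ← h1, closure_le]
      rintro _ ⟨x, v, hv, rfl⟩
      exact hW v hv x
    · by_contra hcon
      push Not at hcon
      obtain ⟨d, -, hd1, hd⟩ := exists_fixed (U := U ⧸ D) T.isPGroup' hpV hVne fun _ _ _ _ => mem_top _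
      have h1 : ClassTwoFusion.Quad.cv (U ⧸ D) ((T : Subgroup X) : Set X) = ⊤ := by
        refine hinv _ (fun x w hw a ha => ?_) fun h0 => hd1 ?_
        · rw [hcon w hw x]; exact hw a ha
        · have h2 : d ∈ ClassTwoFusion.Quad.cv (U ⧸ D) ((T : Subgroup X) : Set X) := hd
          rw [h0, mem_bot] at h2
          exact h2
      obtain ⟨x, hx⟩ := hXne
      refine hx (hfaith x fun v => hcon v ?_ x)
      have h2 : v ∈ ClassTwoFusion.Quad.cv (U ⧸ D) ((T : Subgroup X) : Set X) := by rw [h1]; exact mem_top _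
      exact h2
  -- `odd X V = 1`
  have hodd : ∀ v ∈ FFBr.odd X (U ⧸ D), v = 1 := by
    by_contra hcon
    push Not at hcon
    obtain ⟨v, hv, hv1⟩ := hcon
    have h1 : FFBr.odd X (U ⧸ D) = ⊤ := by
      refine hinv _ (fun x w hw y hy => ?_) fun h0 => hv1 ?_
      · have h2 : orderOf (x⁻¹ * y * x) = orderOf y := by
          have := orderOf_injective (MulAut.conj x⁻¹).toMonoidHom (MulAut.conj x⁻¹).injective y
          rw [← this]
          congr 1
          change _ = x⁻¹ * y * x⁻¹⁻¹
          rw [inv_inv]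
        have h3 := hw (x⁻¹ * y * x) (by rw [h2]; exact hy)
        rw [mul_smul, mul_smul, inv_smul_eq_iff] at h3
        exact h3
      · rw [h0, mem_bot] at hv
        exact hv
    -- all elements of odd order are trivial, so `X` is a 2-group
    have h2 : IsPGroup 2 X := by
      intro x
      obtain ⟨a, m, hm, ha⟩ := Nat.exists_eq_pow_mul_and_not_dvd (orderOf_pos x).ne' 2 (by norm_num)
      refine ⟨a, hfaith _ fun w => ?_⟩
      have hw : w ∈ FFBr.odd X (U ⧸ D) := by rw [h1]; exact mem_top _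
      refine hw _ ?_
      have hm0 : 0 < m := Nat.pos_of_ne_zero (by rintro rfl; simp at hm)
      rw [orderOf_pow_of_dvd (by positivity) (ha ▸ Dvd.intro _ rfl), ha,
        Nat.mul_div_cancel_left _ (by positivity)]
      exact Nat.not_even_iff_odd.1 fun h => hm h.two_dvd
    apply hM
    have h3 : (⊤ : Subgroup X) ≤ T :=
      (T.is_maximal' (Q := ⊤) (by
        intro x
        obtain ⟨n, hn⟩ := h2 (x : X)
        exact ⟨n, Subtype.ext hn⟩) le_top).le
    exact top_le_iff.1 (h3.trans hTM)
  -- the offender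
  have hcv : (ClassTwoFusion.Quad.cv (U ⧸ D) (A : Set X)).comap (QuotientGroup.mk' D) =
      ClassTwoFusion.Quad.cv U (A : Set X) := by
    ext u
    rw [mem_comap]
    constructor
    · intro h
      exact full u fun a ha => (hfixq a u).1 (h a ha)
    · intro h a ha
      exact (hfixq a u).2 (by rw [h a ha, mul_inv_cancel]; exact one_mem _)
  have hoff : AOff (U ⧸ D) A := by
    refine ⟨hAc, hA2, hAne, ?_⟩
    rw [← Subgroup.index_comap_of_surjective _ (QuotientGroup.mk'_surjective D), hcv]
    exact hle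
  obtain ⟨-, hconcl⟩ := hA X (U ⧸ D) T M habs ⟨A, hoff⟩
  have L : Lift (QuotientGroup.mk' D) (T : Subgroup X) A := by
    refine ⟨hcom, hsq, QuotientGroup.mk'_surjective D, fun _ _ => rfl, fun u hu => ?_, hfaith, hodd, T.isPGroup', hAT,
      hoff, fun u hu => full u fun a ha => (hfixq a u).1 (hu a ha)⟩
    exact hDo u ((QuotientGroup.eq_one_iff u).1 hu)
  obtain ⟨u, hu, hu1⟩ := L.exists_fix hconcl
  exact ⟨u, hu, fun h => hu1 ((QuotientGroup.eq_one_iff u).2 h)⟩

end Cfsg.Agent.Omega.NO3b.EndFix
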