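import Cfsg.Agent.Omega.NO3b.K0.Def
import Cfsg.Agent.Omega.NO3b.K0.Quot
import Cfsg.Agent.Omega.FFBr.Main

/-!
# THEOREM K0: `FullOff T X` from the abstract FF theorem

`fullOff` : `FFBr.AStmt` implies `K0.FullOff T X` for every minimal parabolic `X` over its Sylow 2-subgroup `T`.
-/

set_option autoImplicit false

namespace Cfsg.Agent.Omega.NO3b.K0

open Subgroup Cfsg Cfsg.Agent.ZN Cfsg.Agent.ZN.ChoiceBase Cfsg.Agent.ZN.ChoiceSit Cfsg.Agent.Omega.FFBr
open Cfsg.Agent.MinSimple.MinParabolic
open Cfsg.Agent.MinSimple.VModule (oddGen oddGen_le mem_oddGen le_normalizer_oddGen oddGen_le_of_sup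
  le_normalizer_map_of_normal)
open Cfsg.Agent.Omega.NO3b.EZero
open scoped commutatorElement

universe u

variable {G : Type u} [Group G] [Finite G]

theorem min_or {T X K : Subgroup G} (hT : Syl T X) (hmin : IsMinPar T X) (hK : K ≤ X)
    (hKn : X ≤ normalizer (K : Set G)) : oddGen X ≤ K ∨ T ⊓ K ≤ o2 X := by
  have : Fact (Nat.Prime 2) := ⟨Nat.prime_two⟩
  rcases hmin.sup_eq_or_inf_le hT.2.1 (syl_not_dvd hT) hK hKn with h1 | h1
  · exact Or.inl (oddGen_le_of_sup hKn h1.ge hT.1 hK hT.2.1)
  · exact Or.inr h1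

theorem fullOff (hA : AStmt.{u}) {T X : Subgroup G} (hT : Syl T X) (hmin : IsMinPar T X) : FullOff T X := by
  intro Y A hYX hsq hcom hN hQ hYO hYne hirr hAT hA2 hAc hAne hfull hidx
  have hfact : Fact (Nat.Prime 2) := ⟨Nat.prime_two⟩
  have hcm : ∀ a b : Y, a * b = b * a := fun a b => Subtype.ext (mem_centralizer_iff.1 (hcom b.2) a a.2)
  have hYc : ¬ Y ≤ centralizer (oddGen X : Set G) := by
    intro h0
    apply hYne
    rw [← hYO]
    exact commutator_eq_bot_iff_le_centralizer.2 h0
  set D : Subgroup Y := (centralizer (oddGen X : Set G)).subgroupOf Y with hDdef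
  have hmemD : ∀ d : Y, d ∈ D ↔ (d : G) ∈ centralizer (oddGen X : Set G) := fun d => mem_subgroupOf
  have hXc : X ≤ normalizer ((centralizer (oddGen X : Set G) : Subgroup G) : Set G) := by
    intro x hx
    rw [mem_normalizer_iff_cj, cj_centralizer, mem_normalizer_iff_cj.1 (le_normalizer_oddGen X hx)]
  -- the Sylow 2-subgroup and the maximal subgroup
  obtain ⟨P, hP⟩ := syl_iff.1 hT
  have hTP : T.subgroupOf X = (P : Subgroup X) := by
    rw [← hP, Subgroup.subgroupOf, comap_map_eq_self_of_injective X.subtype_injective]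
  have hm' := hmin.exists_isMin
  rw [hTP] at hm'
  obtain ⟨M₁, hm⟩ := hm'
  set C : Subgroup X := (centralizer (Y : Set G)).subgroupOf X with hC
  have hker : (pr hN).ker = C := ker_pr hN
  have hCn : C.Normal := by rw [← hker]; infer_instance
  have hXY : X ≤ normalizer ((X ⊓ centralizer (Y : Set G) : Subgroup G) : Set G) := le_normalizer_inf_cent hN
  have hTC : T ⊓ centralizer (Y : Set G) ≤ o2 X := by
    rcases min_or hT hmin (K := X ⊓ centralizer (Y : Set G)) inf_le_left hXY with h1 | h1
    · exact absurd (cent_symm (h1.trans inf_le_right)) hYc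
    · exact (le_inf inf_le_left (le_inf (inf_le_left.trans hT.1) inf_le_right)).trans h1
  have hCP : C ⊔ (P : Subgroup X) ≠ ⊤ := by
    intro h0
    have h1 : (X ⊓ centralizer (Y : Set G)) ⊔ T = X := by
      have h2 := congrArg (Subgroup.map X.subtype) h0
      rw [Subgroup.map_sup, hP, hC, subgroupOf_map_subtype, map_top_subtype, inf_comm] at h2
      exact h2
    have h3 := oddGen_le_of_sup hXY h1.ge hT.1 inf_le_left hT.2.1
    exact hYc (cent_symm (h3.trans inf_le_right))
  have hCM : C ≤ M₁ := le_sup_left.trans (hm.le_of _ le_sup_right hCP)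
  have hPM : (P : Subgroup X) ≤ M₁ := le_sup_right.trans (hm.le_of _ le_sup_right hCP)
  have hMc : (M₁.map (pr hN)).comap (pr hN) = M₁ := by
    rw [comap_map_eq, hker, sup_eq_left]
    exact hCM
  have hmemT : ∀ x : XX hN, x ∈ P.mapSurjective (pr_surjective hN) ↔ ∃ t : X, (t : G) ∈ T ∧ pr hN t = x := by
    intro x
    constructor
    · rintro ⟨t, ht, rfl⟩
      have ht' : t ∈ T.subgroupOf X := by rw [hTP]; exact ht
      exact ⟨t, mem_subgroupOf.1 ht', rfl⟩
    · rintro ⟨t, ht, rfl⟩
      refine ⟨t, ?_, rfl⟩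
      have ht' : t ∈ T.subgroupOf X := mem_subgroupOf.2 ht
      rw [hTP] at ht'
      exact ht'
  -- elements of odd order centralise `D`
  have hDo : ∀ d ∈ D, ∀ x : XX hN, Odd (orderOf x) → x • d = d := fun d hd x hx =>
    (mem_odd_iff hN d).2 ((hmemD d).1 hd) x hx
  have hDinv : ∀ x : XX hN, ∀ d ∈ D, x • d ∈ D := by
    intro x d hd
    obtain ⟨g, rfl⟩ := pr_surjective hN x
    rw [hmemD, coe_pr_smul]
    exact (mem_normalizer_iff.1 (hXc g.2) _).1 ((hmemD d).1 hd)
  -- the kernel on `Y / D`
  have hfaith : ∀ x : XX hN, (∀ u : Y, (x • u) * u⁻¹ ∈ D) → x = 1 := by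
    -- `N̄` is a normal 2-subgroup
    let N : Subgroup (XX hN) :=
      { carrier := {x | ∀ u : Y, (x • u) * u⁻¹ ∈ D}
        one_mem' := fun u => by rw [one_smul, mul_inv_cancel]; exact D.one_mem
        mul_mem' := by
          intro x y hx hy u
          have e : ((x * y) • u) * u⁻¹ = ((x • y • u) * (y • u)⁻¹) * ((y • u) * u⁻¹) := by
            rw [mul_smul]; group
          rw [e]
          exact D.mul_mem (hx _) (hy _)
        inv_mem' := by
          intro x hx u
          have h1 := D.inv_mem (hx (x⁻¹ • u))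
          rw [smul_inv_smul, mul_inv_rev, inv_inv] at h1
          exact h1 }
    have hNn : N.Normal := by
      refine ⟨fun x hx g u => ?_⟩
      have h1 := hDinv g _ (hx (g⁻¹ • u))
      rw [smul_mul', smul_inv', smul_inv_smul, ← mul_smul, ← mul_smul] at h1
      exact h1
    have hN2 : IsPGroup 2 N := by
      intro x
      obtain ⟨a, m, hm, ha⟩ := Nat.exists_eq_pow_mul_and_not_dvd (orderOf_pos (x : XX hN)).ne' 2 (by norm_num)
      refine ⟨a, Subtype.ext ?_⟩
      have hm0 : 0 < m := Nat.pos_of_ne_zero (by rintro rfl; simp at hm)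
      have hmo : Odd m := Nat.not_even_iff_odd.1 fun h => hm h.two_dvd
      have ho : orderOf ((x : XX hN) ^ 2 ^ a) = m := by
        rw [orderOf_pow_of_dvd (by positivity) (ha ▸ Dvd.intro _ rfl), ha,
          Nat.mul_div_cancel_left _ (by positivity)]
      set y : XX hN := (x : XX hN) ^ 2 ^ a with hy
      have hyN : y ∈ N := N.pow_mem x.2 _
      change y = 1
      refine faith hN y fun u => ?_
      have hd := hyN u
      have hyd := hDo _ hd y (by rw [ho]; exact hmo)
      have key : ∀ n : ℕ, y ^ n • u = ((y • u) * u⁻¹) ^ n * u := by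
        intro n
        induction n with
        | zero => simp
        | succ n ih =>
          rw [pow_succ', mul_smul, ih, smul_mul', smul_pow', hyd, pow_succ, mul_assoc _ _ u, inv_mul_cancel_right]
      have h1 := key m
      rw [← ho, pow_orderOf_eq_one, one_smul, ho] at h1
      have h2 : ((y • u) * u⁻¹) ^ m = 1 := by
        have := congrArg (fun z => z * u⁻¹) h1
        simpa using this.symm
      have hs : ((y • u) * u⁻¹) ^ 2 = 1 := Subtype.ext (hsq _ ((y • u) * u⁻¹).2)
      obtain ⟨j, hj⟩ := hmo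
      rw [hj, pow_succ, pow_mul, hs, one_pow, one_mul] at h2
      exact mul_inv_eq_one.1 h2
    -- the preimage
    have hN₁ : (N.comap (pr hN)).Normal := hNn.comap _
    have h1 : X ≤ normalizer (((N.comap (pr hN)).map X.subtype : Subgroup G) : Set G) :=
      le_normalizer_map_of_normal hN₁
    have h2 : T ⊓ (N.comap (pr hN)).map X.subtype ≤ o2 X := by
      rcases min_or hT hmin (map_subtype_le _) h1 with h3 | h3
      · exfalso
        apply hYc
        rw [← hYO, commutator_le]
        intro y hy g hg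
        obtain ⟨g', hg', rfl⟩ := h3 hg
        have h4 := hg' ⟨y, hy⟩
        rw [hmemD] at h4
        have h5 := (centralizer (oddGen X : Set G)).inv_mem h4
        rw [commutatorElement_def]
        have e : ((pr hN g' • (⟨y, hy⟩ : Y) * (⟨y, hy⟩ : Y)⁻¹ : Y) : G)⁻¹ =
            y * X.subtype g' * y⁻¹ * (X.subtype g')⁻¹ := by
          rw [Subgroup.coe_mul, coe_pr_smul, Subgroup.coe_inv]
          simp only [coe_subtype]
          group
        rw [← e]
        exact h5
      · exact h3
    intro x hx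
    have hxN : x ∈ N := hx
    have h3 : N ≤ (P.mapSurjective (pr_surjective hN) : Sylow 2 (XX hN)) := by
      have h9 : IsPGroup 2 ((P.mapSurjective (pr_surjective hN) : Subgroup (XX hN)) ⊔ N : Subgroup (XX hN)) :=
        (P.mapSurjective (pr_surjective hN)).isPGroup'.to_sup_of_normal_right hN2
      exact le_sup_right.trans_eq ((P.mapSurjective (pr_surjective hN)).is_maximal' h9 le_sup_left)
    obtain ⟨t, ht, rfl⟩ := (hmemT x).1 (h3 hxN)
    exact (pr_eq_one hN).2 (hQ (h2 ⟨ht, t, hxN, rfl⟩))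
  -- the offender
  have hAX : A ≤ X := hAT.trans hT.1
  have hAo : A ⊓ centralizer (Y : Set G) = A ⊓ o2 X :=
    le_antisymm (le_inf inf_le_left ((inf_le_inf_right _ hAT).trans hTC)) (inf_le_inf_left _ hQ)
  have hAY : ¬ A ≤ centralizer (Y : Set G) := fun h0 => hAne ((le_inf hAT h0).trans hTC)
  have hle : (ClassTwoFusion.Quad.cv Y (im hN A : Set (XX hN))).index ≤ Nat.card (im hN A) := by
    have h1 := card_im hN hAX
    have h2 := card_cv_im hN hAX
    have h3 : (centralizer (A : Set G)).relIndex Y * Nat.card ↥(Y ⊓ centralizer (A : Set G)) = Nat.card Y := by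
      have e := relIndex_inf_mul_relIndex (⊥ : Subgroup G) (centralizer (A : Set G)) Y
      rw [relIndex_bot_left, bot_inf_eq, relIndex_bot_left, mul_comm, inf_comm] at e
      exact e
    have h4 : (o2 X).relIndex A * Nat.card ↥(A ⊓ o2 X) = Nat.card A := by
      have e := relIndex_inf_mul_relIndex (⊥ : Subgroup G) (o2 X) A
      rw [relIndex_bot_left, bot_inf_eq, relIndex_bot_left, mul_comm, inf_comm] at e
      exact e
    have h5 : 0 < Nat.card ↥(Y ⊓ centralizer (A : Set G)) := Nat.card_pos
    have h6 : 0 < Nat.card ↥(A ⊓ o2 X) := Nat.card_pos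
    rw [hAo] at h1
    have h7 : Nat.card (im hN A) = (o2 X).relIndex A := Nat.eq_of_mul_eq_mul_right h6 (h1.trans h4.symm)
    have h8 : (ClassTwoFusion.Quad.cv Y (im hN A : Set (XX hN))).index = (centralizer (A : Set G)).relIndex Y := by
      rw [mul_comm] at h2
      exact Nat.eq_of_mul_eq_mul_right h5 (h2.trans h3.symm)
    rw [h7, h8, hidx]
  obtain ⟨u, hu, huD⟩ := EndFix.exists_fix_of hA (X := XX hN) (U := Y) hcm
    (fun u => Subtype.ext (by
      have := hsq u u.2
      rw [pow_two] at this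
      exact this)) hDinv hDo (fun h0 => hYc (subgroupOf_eq_top.1 h0)) (by
      intro K hK hKne
      have h1 : K.map Y.subtype ≤ centralizer (oddGen X : Set G) := by
        refine hirr _ (map_subtype_le _) ?_ ?_
        · intro g hg
          refine mem_normalizer_of_cj_le ?_
          rintro _ ⟨_, ⟨w, hw, rfl⟩, rfl⟩
          exact ⟨pr hN ⟨g, hg⟩ • w, hK _ w hw, rfl⟩
        · intro h0
          apply hKne
          rw [eq_top_iff]
          intro w _
          have h2 : (w : G) ∈ K.map Y.subtype := by rw [h0]; exact w.2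
          obtain ⟨w', hw', h3⟩ := h2
          rwa [← Subtype.ext h3]
      intro w hw
      rw [hmemD]
      exact h1 ⟨w, hw, rfl⟩) hfaith (T := P.mapSurjective (pr_surjective hN)) (M := M₁.map (pr hN)) (by
      rw [Sylow.coe_mapSurjective]
      exact map_mono hPM) (by
      intro h5
      apply hm.ne_top
      rw [← hMc, h5, comap_top]) (by
      intro K hK
      rw [Sylow.coe_mapSurjective, map_le_iff_le_comap] at hK
      by_cases hK1 : K.comap (pr hN) = ⊤
      · right
        rw [← map_comap_eq_self_of_surjective (pr_surjective hN) K, hK1,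
          map_top_of_surjective _ (pr_surjective hN)]
      · left
        have h5 := hm.le_of _ hK hK1
        rw [← map_comap_eq_self_of_surjective (pr_surjective hN) K]
        exact map_mono h5) (A := im hN A) (by
      rintro _ ⟨a, ha, rfl⟩
      exact (hmemT _).2 ⟨a, hAT (mem_subgroupOf.1 ha), rfl⟩) (by
      rintro _ ⟨a, ha, rfl⟩ _ ⟨b, hb, rfl⟩
      have h1 : pr hN (a * b * a⁻¹ * b⁻¹) = 1 := (pr_eq_one hN).2 (hQ (hAc a ha b hb))
      rw [map_mul, map_mul, map_mul, map_inv, map_inv, mul_inv_eq_one, mul_inv_eq_iff_eq_mul] at h1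
      exact h1) (by
      rintro _ ⟨a, ha, rfl⟩
      have h1 : pr hN (a ^ 2) = 1 := (pr_eq_one hN).2 (hQ (hA2 a ha))
      rw [map_pow, pow_two] at h1
      exact h1) (by
      intro h0
      apply hAY
      intro a ha
      have h1 : pr hN ⟨a, hAX ha⟩ ∈ im hN A := ⟨⟨a, hAX ha⟩, ha, rfl⟩
      rw [h0, mem_bot] at h1
      exact (pr_eq_one hN).1 h1) hle (by
      rintro u hu _ ⟨a, ha, rfl⟩
      rw [pr_smul_eq_iff]
      have h1 := hfull u u.2 (fun b hb => by
        have h2 := hu (pr hN ⟨b, hAX hb⟩) ⟨⟨b, hAX hb⟩, hb, rfl⟩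
        rw [hmemD] at h2
        have h5 := (centralizer (oddGen X : Set G)).inv_mem h2
        rw [commutatorElement_def]
        have e : ((pr hN ⟨b, hAX hb⟩ • u * u⁻¹ : Y) : G)⁻¹ = u * b * (u : G)⁻¹ * b⁻¹ := by
          rw [Subgroup.coe_mul, coe_pr_smul, Subgroup.coe_inv]
          group
        rw [← e]
        exact h5)
      exact mem_centralizer_iff.1 h1 a ha)
  refine ⟨u, u.2, ?_, fun h0 => huD ((hmemD u).2 h0)⟩
  rw [mem_centralizer_iff]
  intro t ht
  exact (pr_smul_eq_iff hN).1 (hu (pr hN ⟨t, hT.1 ht⟩) ((hmemT _).2 ⟨⟨t, hT.1 ht⟩, ht, rfl⟩))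

end Cfsg.Agent.Omega.NO3b.K0
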