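import Cfsg.Agent.Omega.NO3b.K0.Crit

/-!
# THEOREM K0, part 4: one noncentral chief factor

* `Crit.count` : `|E : C_E(U^g)| = 1` or `2 |E : C_E(U^g)| ≤ |U^g : U^g ∩ Q|`, `E = U ∩ Q^g`;
* `NoOv.gen` : no over-offenders on the noncentral sections;
* `Base.one` : every proper `X`-invariant subgroup of `U₀ = [U, O²(X)]` is centralised by `O²(X)`.
-/

set_option autoImplicit false

namespace Cfsg.Agent.Omega.NO3b.K0

open Subgroup Cfsg Cfsg.Agent.ZN Cfsg.Agent.ZN.ChoiceBase Cfsg.Agent.ZN.ChoiceSit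
open Cfsg.Agent.MinSimple.MinParabolic (IsMinPar)
open Cfsg.Agent.MinSimple.VModule (oddGen oddGen_le mem_oddGen le_normalizer_oddGen oddGen_le_of_sup)
open Cfsg.Agent.Omega.NO3b.EZero
open Cfsg.Agent.Omega.NO3S.NotFF (commutator_le_of_odd le_centralizer_of_commutator commutator_commutator_eq
  normalizer_commutator le_normalizer_bot)
open scoped commutatorElement

universe u

variable {G : Type u} [Group G]

theorem cent_sup (A B : Subgroup G) : centralizer ((A ⊔ B : Subgroup G) : Set G) =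
    centralizer (B : Set G) ⊓ centralizer (A : Set G) := by
  apply le_antisymm
  · exact le_inf (centralizer_le (SetLike.coe_subset_coe.2 le_sup_right))
      (centralizer_le (SetLike.coe_subset_coe.2 le_sup_left))
  · exact cent_symm (sup_le (cent_symm inf_le_right) (cent_symm inf_le_left))

theorem two_mul_le_of_lt [Finite G] {A B C D : Subgroup G} (hB : IsPGroup 2 B) (hD : IsPGroup 2 D)
    (hlt : A.relIndex B < C.relIndex D) : 2 * A.relIndex B ≤ C.relIndex D := by
  have : Fact (Nat.Prime 2) := ⟨Nat.prime_two⟩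
  obtain ⟨m, hm⟩ := hB.index (A.subgroupOf B)
  obtain ⟨n, hn⟩ := hD.index (C.subgroupOf D)
  change A.relIndex B = 2 ^ m at hm
  change C.relIndex D = 2 ^ n at hn
  rw [hm, hn] at hlt ⊢
  have h1 := (Nat.pow_lt_pow_iff_right (by norm_num : 1 < 2)).1 hlt
  calc 2 * 2 ^ m = 2 ^ (m + 1) := by ring
    _ ≤ 2 ^ n := Nat.pow_le_pow_right (by norm_num) (by omega)

theorem two_le_of_ne [Finite G] {A B : Subgroup G} (h : ¬ B ≤ A) : 2 ≤ A.relIndex B := by
  have h1 : A.relIndex B ≠ 0 := index_ne_zero_of_finite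
  have h2 : A.relIndex B ≠ 1 := fun h0 => h (relIndex_eq_one.1 h0)
  omega

namespace Crit

variable {V F T X L Q0 : Subgroup G} {g : G} (c : Crit V X Q0 g) (h : Base V F T X L Q0)
include c h

variable [Finite G]

omit c in
/-- `Q^g` normalises `V^{gy}` -/
theorem o2_norm_line {y : G} (hy : y ∈ X) :
    cj g (o2 X) ≤ normalizer ((cj (g * y) V : Subgroup G) : Set G) := by
  have h1 := cj_norm (g := g) (h.o2_norm_line hy)
  rwa [cj_cj] at h1

/-- the line by line count -/
theorem count : (centralizer ((cj g (cl V X) : Subgroup G) : Set G)).relIndex (cl V X ⊓ cj g (o2 X)) = 1 ∨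
    2 * (centralizer ((cj g (cl V X) : Subgroup G) : Set G)).relIndex (cl V X ⊓ cj g (o2 X)) ≤
      (o2 X).relIndex (cj g (cl V X)) := by
  set U' := cj g (cl V X) with hU'
  set E := cl V X ⊓ cj g (o2 X) with hE
  let P : Subgroup G → Prop := fun D => U' ⊓ o2 X ≤ D ∧ D ≤ U' ∧
    ((centralizer (D : Set G)).relIndex E = 1 ∨
      2 * (centralizer (D : Set G)).relIndex E ≤ (o2 X).relIndex D)
  have hP0 : P (U' ⊓ o2 X) := by
    refine ⟨le_rfl, inf_le_left, Or.inl (relIndex_eq_one.2 ?_)⟩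
    rintro u ⟨hu1, hu2⟩
    rw [mem_centralizer_iff]
    rintro e ⟨he1, he2⟩
    exact (c.comm_E h hu1 hu2 he1 he2).symm
  obtain ⟨D, hD, hmax⟩ := Set.exists_max_image {D : Subgroup G | P D} (fun D => Nat.card D)
    (Set.toFinite _) ⟨_, hP0⟩
  obtain ⟨hD1, hD2, hD3⟩ : P D := hD
  have hDU : D = U' := by
    by_contra hne
    have h1 : ∃ y ∈ X, ¬ cj (g * y) V ≤ D := by
      by_contra hcon
      push Not at hcon
      apply hne
      refine le_antisymm hD2 ?_
      rw [hU']
      unfold cl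
      rw [EZero.cj_iSup]
      refine iSup_le fun y => ?_
      rw [cj_cj]
      exact hcon y y.2
    obtain ⟨y, hy, hyD⟩ := h1
    set B := cj (g * y) V with hB
    have hBU : B ≤ U' := by
      have h3 := cj_mono g (cj_le_cl (V := V) hy)
      rwa [cj_cj] at h3
    have hU'ab : U' ≤ centralizer (U' : Set G) := cj_cent h.U_comm
    have hPB : P (D ⊔ B) := by
      refine ⟨hD1.trans le_sup_left, sup_le hD2 hBU, ?_⟩
      rw [cent_sup, ← relIndex_inf_mul_relIndex]
      have hQD : (o2 X).relIndex D ≤ (o2 X).relIndex (D ⊔ B) :=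
        relIndex_le_of_le_right le_sup_left index_ne_zero_of_finite
      by_cases hc : centralizer (D : Set G) ⊓ E ≤ centralizer (B : Set G)
      · rw [relIndex_eq_one.2 hc, one_mul]
        rcases hD3 with h4 | h4
        · exact Or.inl h4
        · exact Or.inr (h4.trans hQD)
      · right
        have hEU : E ≤ cl V X := inf_le_left
        have h5 := (h.nff.cj (g * y)) (centralizer (D : Set G) ⊓ E) (h.isPGroup_U.to_le (inf_le_right.trans hEU))
          ((inf_le_right.trans inf_le_right).trans (o2_norm_line h hy))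
          (fun a ha => by rw [h.U_sq a (hEU ha.2)]; exact one_mem _)
          (fun a ha b hb => by
            have e : a * b = b * a := (mem_centralizer_iff.1 (h.U_comm (hEU ha.2)) b (hEU hb.2)).symm
            rw [e, mul_inv_cancel_right, mul_inv_cancel]; exact one_mem _) hc
        have h6 := two_mul_le_of_lt (h.isPGroup_U.to_le (inf_le_right.trans hEU))
          (isPGroup_cj _ h.isPGroup_V) h5
        -- `|B : C_B(E₁)| ≤ |B : B ∩ D| ≤ |D B : D|`
        have h7 : (centralizer ((centralizer (D : Set G) ⊓ E : Subgroup G) : Set G)).relIndex B ≤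
            D.relIndex (D ⊔ B) := by
          refine le_trans (relIndex_le_of_le_left (H := D) ?_ index_ne_zero_of_finite)
            (relIndex_le_of_le_right le_sup_right index_ne_zero_of_finite)
          exact cent_symm inf_le_left
        have h8 : (centralizer (D : Set G)).relIndex E ≤ (o2 X).relIndex D := by
          rcases hD3 with h4 | h4
          · rw [h4]; exact Nat.pos_of_ne_zero index_ne_zero_of_finite
          · omega
        have h9 : (o2 X).relIndex D * D.relIndex (D ⊔ B) ≤ (o2 X).relIndex (D ⊔ B) := by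
          have h10 := relIndex_mul_relIndex (D ⊓ o2 X) D (D ⊔ B) inf_le_left le_sup_left
          rw [inf_relIndex_left] at h10
          rw [h10]
          have h11 : (D ⊔ B) ⊓ o2 X ≤ D ⊓ o2 X := by
            refine le_inf ?_ inf_le_right
            exact (inf_le_inf_right _ (sup_le hD2 hBU)).trans hD1
          have h12 := relIndex_le_of_le_left (L := D ⊔ B) h11 index_ne_zero_of_finite
          rwa [inf_relIndex_left] at h12
        calc 2 * ((centralizer (B : Set G)).relIndex (centralizer (D : Set G) ⊓ E) *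
              (centralizer (D : Set G)).relIndex E)
            = (2 * (centralizer (B : Set G)).relIndex (centralizer (D : Set G) ⊓ E)) *
              (centralizer (D : Set G)).relIndex E := by ring
          _ ≤ D.relIndex (D ⊔ B) * (o2 X).relIndex D := Nat.mul_le_mul (h6.trans h7) h8
          _ = (o2 X).relIndex D * D.relIndex (D ⊔ B) := by ring
          _ ≤ _ := h9
    have h13 := hmax _ hPB
    have h14 : D = D ⊔ B := eq_of_le_of_card_ge le_sup_left h13
    exact hyD (le_sup_right.trans h14.ge)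
  rw [hDU] at hD3
  exact hD3

/-- `C_U(U^g) ≤ Q^g` -/
theorem cent_le_o2 : cl V X ⊓ centralizer ((cj g (cl V X) : Subgroup G) : Set G) ≤ cj g (o2 X) :=
  h.le_cj_o2 (h.isPGroup_U.to_le inf_le_left) (inf_le_left.trans (c.le_cj_X h)) inf_le_right

/-- `|U : C_U(U^g)| = |E : C_E(U^g)| |U : E|` -/
theorem index_eq : (centralizer ((cj g (cl V X) : Subgroup G) : Set G)).relIndex (cl V X ⊓ cj g (o2 X)) *
    (cj g (o2 X)).relIndex (cl V X) =
      (centralizer ((cj g (cl V X) : Subgroup G) : Set G)).relIndex (cl V X) := by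
  have h1 := relIndex_inf_mul_relIndex (centralizer ((cj g (cl V X) : Subgroup G) : Set G)) (cj g (o2 X))
    (cl V X)
  rw [inf_comm (cl V X)]
  rw [h1, ← inf_relIndex_right]
  have h2 : centralizer ((cj g (cl V X) : Subgroup G) : Set G) ⊓ cj g (o2 X) ⊓ cl V X =
      centralizer ((cj g (cl V X) : Subgroup G) : Set G) ⊓ cl V X := by
    apply le_antisymm
    · exact le_inf (inf_le_left.trans inf_le_left) inf_le_right
    · refine le_inf (le_inf inf_le_left ?_) inf_le_right
      rw [inf_comm]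
      exact c.cent_le_o2 h
  rw [h2, inf_relIndex_right]

/-- `U ≰ Q^g` -/
theorem nle : ¬ cl V X ≤ cj g (o2 X) := by
  intro h0
  have h1 : ∃ x ∈ X, ∃ y ∈ X, ¬ cj x V ≤ centralizer ((cj (g * y) V : Subgroup G) : Set G) := by
    by_contra hcon
    push Not at hcon
    refine c.ncomm (cl_le fun x hx => cent_symm ?_)
    unfold cl
    rw [EZero.cj_iSup]
    refine iSup_le fun y => ?_
    rw [cj_cj]
    exact cent_symm (hcon x hx y y.2)
  obtain ⟨x, hx, y, hy, hxy⟩ := h1
  exact (c.norm h hx hy hxy).1 (((cj_le_cl hx).trans h0).trans (o2_norm_line h hy))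

/-- `|U : C_U(U^g)| < |U : U ∩ Q^g| |U^g : U^g ∩ Q|` -/
theorem index_lt : (centralizer ((cj g (cl V X) : Subgroup G) : Set G)).relIndex (cl V X) <
    (cj g (o2 X)).relIndex (cl V X) * (o2 X).relIndex (cj g (cl V X)) := by
  have h1 : 2 ≤ (cj g (o2 X)).relIndex (cl V X) := two_le_of_ne (c.nle h)
  have h2 : 2 ≤ (o2 X).relIndex (cj g (cl V X)) := by
    have h3 := two_le_of_ne (c.inv.nle h)
    rw [← relIndex_cj g, cj_cj_inv] at h3
    exact h3
  rw [← c.index_eq h]
  rcases c.count h with h3 | h3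
  · rw [h3, one_mul]
    nlinarith
  · have h4 : 0 < (centralizer ((cj g (cl V X) : Subgroup G) : Set G)).relIndex (cl V X ⊓ cj g (o2 X)) :=
      Nat.pos_of_ne_zero index_ne_zero_of_finite
    nlinarith

end Crit

/-! ### No over-offenders on sections -/

/-- No over-offenders on the noncentral sections of `X`. -/
theorem NoOv.gen [Finite G] {X : Subgroup G} (hX : NoOv X) {N Y A D : Subgroup G} (hNY : N ≤ Y) (hYX : Y ≤ X)
    (hsq : ∀ y ∈ Y, y ^ 2 = 1) (hY : Y ≤ centralizer (Y : Set G)) (hN : X ≤ normalizer (N : Set G))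
    (hYn : X ≤ normalizer (Y : Set G)) (hE : ¬ ⁅Y, oddGen X⁆ ≤ N) (hA : A ≤ X)
    (hA2 : ∀ a ∈ A, a ^ 2 ∈ o2 X) (hAc : ∀ a ∈ A, ∀ b ∈ A, a * b * a⁻¹ * b⁻¹ ∈ o2 X) (_hD : D ≤ Y)
    (hDA : ⁅D, A⁆ ≤ N) : (o2 X).relIndex A ≤ D.relIndex Y := by
  obtain ⟨Y', hY', hYmin⟩ := Set.exists_min_image {Y' : Subgroup G | N ≤ Y' ∧ Y' ≤ Y ∧
    X ≤ normalizer (Y' : Set G) ∧ ¬ ⁅Y', oddGen X⁆ ≤ N} (fun Y' => Nat.card Y') (Set.toFinite _)
    ⟨Y, hNY, le_rfl, hYn, hE⟩
  obtain ⟨h1, h2, h3, h4⟩ := hY'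
  have hne : N ≠ Y' := by
    rintro rfl
    apply h4
    rw [← le_normalizer_iff_commutator_le_left]
    exact (oddGen_le X).trans hN
  obtain ⟨N', hN', hNmax⟩ := Set.exists_max_image {N' : Subgroup G | N ≤ N' ∧ N' ≤ Y' ∧ N' ≠ Y' ∧
    X ≤ normalizer (N' : Set G)} (fun N' => Nat.card N') (Set.toFinite _) ⟨N, le_rfl, h1, hne, hN⟩
  obtain ⟨k1, k2, k3, k4⟩ := hN'
  have hYP : IsPGroup 2 Y := fun x => ⟨1, Subtype.ext (by simpa using hsq x x.2)⟩
  have hcomm : ∀ A B : Subgroup G, A ≤ Y → B ≤ Y → A ≤ normalizer (B : Set G) := fun A B hA hB =>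
    (hA.trans (hY.trans (centralizer_le hB))).trans (centralizer_le_normalizer _)
  have hN'E : ⁅N', oddGen X⁆ ≤ N := by
    by_contra h0
    have h5 := hYmin N' ⟨k1, k2.trans h2, k4, h0⟩
    exact k3 (eq_of_le_of_card_ge k2 h5)
  have hY'E : ¬ ⁅Y', oddGen X⁆ ≤ N' := by
    intro h0
    apply h4
    exact commutator_le_of_odd (oddGen_oddGen X) (hYP.to_le h2) ((oddGen_le X).trans h3)
      ((oddGen_le X).trans hN) (hcomm _ _ h2 hNY) ((commutator_mono h0 le_rfl).trans hN'E)
  have h5 := hX N' Y' A (D ⊓ Y') k2 (h2.trans hYX) (fun y hy => hsq y (h2 hy))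
    (h2.trans (hY.trans (centralizer_le h2))) k4 h3 (fun K hK1 hK2 hK3 => by
      by_cases hKY : K = Y'
      · exact Or.inr hKY
      · left
        have h6 := hNmax K ⟨k1.trans hK1, hK2, hKY, hK3⟩
        exact (eq_of_le_of_card_ge hK1 h6).symm) hY'E hA hA2 hAc inf_le_right
    ((commutator_mono inf_le_left le_rfl).trans (hDA.trans k1))
  rw [inf_relIndex_right] at h5
  exact h5.trans (relIndex_le_of_le_right h2 index_ne_zero_of_finite)

/-- two noncentral chief factors: `|A : A ∩ Q|² ≤ |Y : C_Y(A)|` -/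
theorem NoOv.two [Finite G] {X : Subgroup G} (hX : NoOv X) {N Y A : Subgroup G} (hNY : N ≤ Y) (hYX : Y ≤ X)
    (hsq : ∀ y ∈ Y, y ^ 2 = 1) (hY : Y ≤ centralizer (Y : Set G)) (hN : X ≤ normalizer (N : Set G))
    (hYn : X ≤ normalizer (Y : Set G)) (hE : ¬ ⁅Y, oddGen X⁆ ≤ N)
    (hE' : ¬ N ≤ centralizer (oddGen X : Set G)) (hA : A ≤ X)
    (hA2 : ∀ a ∈ A, a ^ 2 ∈ o2 X) (hAc : ∀ a ∈ A, ∀ b ∈ A, a * b * a⁻¹ * b⁻¹ ∈ o2 X) :
    (o2 X).relIndex A * (o2 X).relIndex A ≤ (centralizer (A : Set G)).relIndex Y := by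
  set W := centralizer (A : Set G) ⊓ Y with hW
  have hWY : W ≤ Y := inf_le_right
  -- `[N W, A] ≤ N`
  have hNW : ⁅N ⊔ W, A⁆ ≤ N := by
    rw [commutator_le]
    intro x hx a ha
    have h1 : N ≤ normalizer (W : Set G) :=
      (hNY.trans (hY.trans (centralizer_le hWY))).trans (centralizer_le_normalizer _)
    obtain ⟨n, hn, w, hw, rfl⟩ := CTwo.mem_sup_of_le_norm h1 hx
    have h2 := mem_centralizer_iff.1 hw.1 a ha
    have e1 : ⁅n * w, a⁆ = n * (w * a * w⁻¹ * n⁻¹ * a⁻¹) := by
      simp only [commutatorElement_def]; group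
    have e2 : w * a * w⁻¹ = a := by rw [← h2, mul_inv_cancel_right]
    rw [e1, e2]
    exact N.mul_mem hn (conj_mem' (hA.trans hN) ha (N.inv_mem hn))
  have h1 := hX.gen hNY hYX hsq hY hN hYn hE hA hA2 hAc (sup_le hNY hWY) hNW
  have h2 := hX.gen (N := ⊥) (Y := N) (D := W ⊓ N) bot_le (hNY.trans hYX) (fun y hy => hsq y (hNY hy))
    (hNY.trans (hY.trans (centralizer_le hNY))) (le_normalizer_bot X) hN
    (fun h0 => hE' (commutator_eq_bot_iff_le_centralizer.1 (le_bot_iff.1 h0))) hA hA2 hAc inf_le_right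
    ((commutator_mono (inf_le_left.trans inf_le_left) le_rfl).trans
      (commutator_eq_bot_iff_le_centralizer.2 (by exact le_rfl)).le)
  rw [inf_relIndex_right] at h2
  have h3 : W.relIndex N ≤ W.relIndex (N ⊔ W) :=
    relIndex_le_of_le_right le_sup_left index_ne_zero_of_finite
  have h4 := relIndex_mul_relIndex W (N ⊔ W) Y le_sup_right (sup_le hNY hWY)
  have h5 : W.relIndex Y = (centralizer (A : Set G)).relIndex Y := inf_relIndex_right _ _
  rw [← h5, ← h4]
  exact Nat.mul_le_mul (h2.trans h3) h1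

end Cfsg.Agent.Omega.NO3b.K0
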