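import Cfsg.Agent.Omega.NO3b.K0.Basic

/-!
# THEOREM K0, part 3: critical pairs

The element `g` stands for the pair of points `(X, X^g)` whose first line is `V` and whose last line is `V^g`.

* `Wk X L n g` : `g ∈ L (X L)^n`;
* `Crit V X Q0 g` : `[U, U^g] ≠ 1`, `U ≤ Q₀^g`, `U^g ≤ Q₀`;
* `Base.exists_crit`, `Crit.inv`;
* `Crit.norm` : two lines which do not commute do not normalise each other (either way);
* `Crit.inf_le` : `V^x ∩ U^g ≤ F` if `V^x` does not centralise `U^g`;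
* `Crit.comm_le` : `[U, U^g ∩ Q] ≤ F`; `Crit.inf_F` : `F ∩ F^g = 1`; `Crit.comm_E` : `[U ∩ Q^g, U^g ∩ Q] = 1`.
-/

set_option autoImplicit false

namespace Cfsg.Agent.Omega.NO3b.K0

open Subgroup Cfsg Cfsg.Agent.ZN Cfsg.Agent.ZN.ChoiceBase Cfsg.Agent.ZN.ChoiceSit
open Cfsg.Agent.MinSimple.MinParabolic (IsMinPar)
open Cfsg.Agent.MinSimple.VModule (oddGen oddGen_le mem_oddGen le_normalizer_oddGen oddGen_le_of_sup)
open Cfsg.Agent.Omega.NO3b.EZero
open scoped commutatorElement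

universe u

variable {G : Type u} [Group G]

/-- `g ∈ L (X L)^n` -/
inductive Wk (X L : Subgroup G) : ℕ → G → Prop
  | base {l : G} : l ∈ L → Wk X L 0 l
  | step {n : ℕ} {g x l : G} : Wk X L n g → x ∈ X → l ∈ L → Wk X L (n + 1) (g * x * l)

theorem Wk.left {X L : Subgroup G} {n : ℕ} {g : G} (h : Wk X L n g) {l x : G} (hl : l ∈ L) (hx : x ∈ X) :
    Wk X L (n + 1) (l * x * g) := by
  induction h with
  | base hl' => exact (Wk.base hl).step hx hl'
  | step _ hx' hl' ih =>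
    have h1 := ih.step hx' hl'
    simpa only [mul_assoc] using h1

theorem Wk.inv {X L : Subgroup G} {n : ℕ} {g : G} (h : Wk X L n g) : Wk X L n g⁻¹ := by
  induction h with
  | base hl => exact Wk.base (inv_mem hl)
  | @step n g x l _ hx' hl' ih =>
    have h1 := ih.left (inv_mem hl') (inv_mem hx')
    have e : (g * x * l)⁻¹ = l⁻¹ * x⁻¹ * g⁻¹ := by group
    rw [e]; exact h1

theorem Wk.cover {X L : Subgroup G} {h : G} (hh : h ∈ X ⊔ L) :
    h ∈ X ∨ ∃ n g, ∃ x ∈ X, ∃ y ∈ X, Wk X L n g ∧ h = x * g * y := by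
  rw [← closure_eq X, ← closure_eq L, ← Subgroup.closure_union] at hh
  have key : ∀ a b : G, (a ∈ X ∨ ∃ n g, ∃ x ∈ X, ∃ y ∈ X, Wk X L n g ∧ a = x * g * y) →
      (b ∈ X ∨ b ∈ L) → (a * b ∈ X ∨ ∃ n g, ∃ x ∈ X, ∃ y ∈ X, Wk X L n g ∧ a * b = x * g * y) := by
    rintro a b (ha | ⟨n, g, x, hx, y, hy, hg, rfl⟩) (hb | hb)
    · exact Or.inl (mul_mem ha hb)
    · exact Or.inr ⟨0, b, a, ha, 1, one_mem _, Wk.base hb, by rw [mul_one]⟩
    · exact Or.inr ⟨n, g, x, hx, y * b, mul_mem hy hb, hg, by group⟩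
    · exact Or.inr ⟨n + 1, g * y * b, x, hx, 1, one_mem _, hg.step hy hb, by group⟩
  induction hh using Subgroup.closure_induction_right with
  | one => exact Or.inl (one_mem _)
  | mul_right x hx y hy ih => exact key x y ih hy
  | mul_inv_cancel x hx y hy ih =>
    refine key x y⁻¹ ih ?_
    rcases hy with hy | hy
    · exact Or.inl (inv_mem hy)
    · exact Or.inr (inv_mem hy)

/-- a critical pair -/
structure Crit (V X Q0 : Subgroup G) (g : G) : Prop where
  ncomm : ¬ cl V X ≤ centralizer ((cj g (cl V X) : Subgroup G) : Set G)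
  le1 : cl V X ≤ cj g Q0
  le2 : cj g (cl V X) ≤ Q0

theorem Crit.inv {V X Q0 : Subgroup G} {g : G} (c : Crit V X Q0 g) : Crit V X Q0 g⁻¹ := by
  refine ⟨fun h0 => c.ncomm ?_, ?_, ?_⟩
  · have h1 := cj_cent (g := g) h0
    rw [cj_cj_inv] at h1
    exact cent_symm h1
  · rw [← cj_le_iff]; exact c.le2
  · rw [cj_le_iff, inv_inv]; exact c.le1

namespace Base

variable {V F T X L Q0 : Subgroup G} (h : Base V F T X L Q0)
include h

theorem le_cj_Q0_of {k : G} {R : Subgroup G} (hR : IsPGroup 2 R) (h1 : R ≤ cj k L)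
    (h2 : R ≤ centralizer ((cj k V : Subgroup G) : Set G)) : R ≤ cj k Q0 := by
  have h3 := h.le_Q0 (cj k⁻¹ R) (isPGroup_cj _ hR) (by
    have := cj_mono k⁻¹ h1
    rwa [cj_inv_cj] at this) (by
    have := cj_cent (g := k⁻¹) h2
    rwa [cj_inv_cj] at this)
  have h4 := cj_mono k h3
  rwa [cj_cj_inv] at h4

variable [Finite G]

theorem le_cj_o2 {k : G} {R : Subgroup G} (hR : IsPGroup 2 R) (h1 : R ≤ cj k X)
    (h2 : R ≤ centralizer ((cj k (cl V X) : Subgroup G) : Set G)) : R ≤ cj k (o2 X) := by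
  have h3 := h.le_o2_of_cent_U (R := cj k⁻¹ R) (isPGroup_cj _ hR) (by
    have := cj_mono k⁻¹ h1
    rwa [cj_inv_cj] at this) (by
    have := cj_cent (g := k⁻¹) h2
    rwa [cj_inv_cj] at this)
  have h4 := cj_mono k h3
  rwa [cj_cj_inv] at h4

theorem le_cj_Q0 {n : ℕ} {g : G} (hg : Wk X L n g)
    (hm : ∀ m < n, ∀ k, Wk X L m k → cl V X ≤ centralizer ((cj k (cl V X) : Subgroup G) : Set G)) :
    cl V X ≤ cj g Q0 := by
  induction hg with
  | base hl =>
    rw [h.cj_Q0 hl]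
    exact h.le_Q0 _ h.isPGroup_U (h.U_le_o2.trans (h.o2_le_T.trans h.T_le))
      (cent_symm ((le_cl V X).trans h.U_comm))
  | @step n g x l hg hx hl ih =>
    have h1 := ih fun m hmn k hk => hm m (by omega) k hk
    have h2 := hm n (by omega) g hg
    have h3 := h.le_cj_o2 h.isPGroup_U (h1.trans (cj_mono g h.Q0_X)) h2
    have h4 : cj g (o2 X) = cj (g * x) (o2 X) := by
      rw [← cj_cj, cj_of_le (ChoiceSit.le_normalizer_o2 X) hx]
    rw [h4] at h3
    have h5 : cl V X ≤ cj (g * x) Q0 := by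
      refine h.le_cj_Q0_of h.isPGroup_U (h3.trans (cj_mono _ (h.o2_le_T.trans h.T_le))) ?_
      refine h2.trans (centralizer_le ?_)
      have h6 := cj_mono g (cj_le_cl (V := V) hx)
      rwa [cj_cj] at h6
    rwa [← cj_cj, h.cj_Q0 hl]

omit [Finite G] in
/-- `C_{V^x}(w) ≤ F` for `w ∈ X - N(V^x)` -/
theorem cent_le {x w : G} (hx : x ∈ X)
    (hw : w ∈ X) (hn : w ∉ normalizer ((cj x V : Subgroup G) : Set G)) {v : G} (hv : v ∈ cj x V)
    (hc : v * w = w * v) : v ∈ F := by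
  have h1 : cj (w * x) V ≠ cj x V := by
    intro h0
    rw [← cj_cj] at h0
    exact hn (mem_normalizer_iff_cj.2 h0)
  rw [← h.line' (mul_mem hw hx) hx h1]
  refine ⟨?_, hv⟩
  change v ∈ cj (w * x) V
  rw [← cj_cj, mem_cj, mul_assoc, hc, inv_mul_cancel_left]
  exact hv

omit [Finite G] in
theorem V_ne_bot : V ≠ ⊥ := fun h0 => h.F_ne_bot (le_bot_iff.1 (h.F_le.trans h0.le))

theorem exists_crit : ∃ g, Crit V X Q0 g := by
  have hex : ∃ n, ∃ g, Wk X L n g ∧ ¬ cl V X ≤ centralizer ((cj g (cl V X) : Subgroup G) : Set G) := by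
    by_contra hcon
    push Not at hcon
    have h1 : ∀ k ∈ X ⊔ L, cl V X ≤ centralizer ((cj k (cl V X) : Subgroup G) : Set G) := by
      intro k hk
      rcases Wk.cover hk with hk | ⟨n, g, x, hx, y, hy, hg, rfl⟩
      · rw [cj_cl hk]; exact h.U_comm
      · have h2 := cj_cent (g := x) (hcon n g hg)
        rw [cj_cl hx] at h2
        rwa [← cj_cj, cj_cl hy, ← cj_cj]
    have hc : cl (cl V X) (X ⊔ L) ≤ centralizer ((cl (cl V X) (X ⊔ L) : Subgroup G) : Set G) := by
      refine cl_le fun a ha => cent_symm (cl_le fun b hb => ?_)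
      have h2 := cj_cent (g := b) (h1 (b⁻¹ * a) (mul_mem (inv_mem hb) ha))
      rwa [cj_cj, mul_inv_cancel_left] at h2
    have hsq : ∀ w ∈ cl (cl V X) (X ⊔ L), w ^ 2 = 1 :=
      sq_of_comm hc (fun i : (X ⊔ L : Subgroup G) => cj_le_cl i.2) le_rfl fun i v hv => by
        have h1 := h.U_sq _ (mem_cj.1 hv)
        have e : v ^ 2 = (i : G) * ((i : G)⁻¹ * v * i) ^ 2 * (i : G)⁻¹ := by rw [pow_two, pow_two]; group
        rw [e, h1]; group
    have h2 := h.nonloc _ (fun x => ⟨1, Subtype.ext (by simpa using hsq x x.2)⟩)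
      (le_sup_right.trans (le_normalizer_cl _ _)) (le_sup_left.trans (le_normalizer_cl _ _))
    exact h.V_ne_bot (le_bot_iff.1 (((le_cl V X).trans (le_cl _ _)).trans h2.le))
  classical
  obtain ⟨g, hg, hne⟩ := Nat.find_spec hex
  have hm : ∀ m < Nat.find hex, ∀ k, Wk X L m k →
      cl V X ≤ centralizer ((cj k (cl V X) : Subgroup G) : Set G) := by
    intro m hmn k hk
    by_contra h0
    exact Nat.find_min hex hmn ⟨k, hk, h0⟩
  refine ⟨g, hne, h.le_cj_Q0 hg hm, ?_⟩
  rw [cj_le_iff]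
  exact h.le_cj_Q0 hg.inv hm

end Base

namespace Crit

variable {V F T X L Q0 : Subgroup G} {g : G} (c : Crit V X Q0 g) (h : Base V F T X L Q0)
include c h

/-- `U^g ≤ X` -/
theorem le_X : cj g (cl V X) ≤ X := c.le2.trans h.Q0_X

theorem le_T : cj g (cl V X) ≤ T := c.le2.trans h.Q0_le

/-- `U ≤ X^g` -/
theorem le_cj_X : cl V X ≤ cj g X := c.le1.trans (cj_mono g h.Q0_X)

/-- `U` normalises `U^g` -/
theorem U_norm : cl V X ≤ normalizer ((cj g (cl V X) : Subgroup G) : Set G) :=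
  (c.le_cj_X h).trans (cj_norm (le_normalizer_cl V X))

/-- `U^g` normalises `U` -/
theorem norm_U : cj g (cl V X) ≤ normalizer ((cl V X : Subgroup G) : Set G) :=
  (c.le_X h).trans (le_normalizer_cl V X)

/-- `U` centralises `F^g` -/
theorem cent_F : cl V X ≤ centralizer ((cj g F : Subgroup G) : Set G) :=
  (c.le_cj_X h).trans (cj_cent h.X_le)

variable [Finite G]

/-- the key step: `V^x ≤ N(V^{gy})` and `V^{gy} ≰ N(V^x)` is impossible. -/
theorem key {x y : G} (hx : x ∈ X) (hy : y ∈ X)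
    (h1 : cj x V ≤ normalizer ((cj (g * y) V : Subgroup G) : Set G)) :
    cj (g * y) V ≤ normalizer ((cj x V : Subgroup G) : Set G) := by
  by_contra h2
  rw [SetLike.not_le_iff_exists] at h2
  obtain ⟨w, hw, hwn⟩ := h2
  have hwU : w ∈ cj g (cl V X) := by
    have h3 := cj_mono g (cj_le_cl (V := V) hy)
    rw [cj_cj] at h3
    exact h3 hw
  have hwX := c.le_X h hwU
  -- `C_{V^x}(V^{gy}) ≤ F`
  have h3 : cj x V ⊓ centralizer ((cj (g * y) V : Subgroup G) : Set G) ≤ F := fun v hv =>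
    h.cent_le hx hwX hwn hv.1 (mem_centralizer_iff.1 hv.2 w hw).symm
  have hnc : ¬ cj x V ≤ centralizer ((cj (g * y) V : Subgroup G) : Set G) := by
    intro h0
    apply hwn
    exact centralizer_le_normalizer _ (cent_symm h0 hw)
  -- `F^{gy}` is centralised by `V^x`
  have h4 : cj (g * y) F ≤ centralizer ((cj x V : Subgroup G) : Set G) := by
    rw [← cj_cj, h.cj_F hy]
    exact cent_symm ((cj_le_cl hx).trans (c.cent_F h))
  have h5 := (h.nff.cj (g * y)) (cj x V) (isPGroup_cj _ h.isPGroup_V) h1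
    (fun a ha => by rw [h.cj_sq x a ha]; exact one_mem _)
    (fun a ha b hb => by
      have e : a * b = b * a := (mem_centralizer_iff.1 (cj_cent (g := x) h.comm ha) b hb).symm
      rw [e, mul_inv_cancel_right, mul_inv_cancel]; exact one_mem _) hnc
  -- counting
  have h6 : (centralizer ((cj x V : Subgroup G) : Set G)).relIndex (cj (g * y) V) ≤ F.relIndex V := by
    rw [← relIndex_cj (g * y) F V]
    exact Nat.le_of_dvd (Nat.pos_of_ne_zero index_ne_zero_of_finite)
      (relIndex_dvd_of_le_left _ h4)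
  have h7 : F.relIndex V ≤ (centralizer ((cj (g * y) V : Subgroup G) : Set G)).relIndex (cj x V) := by
    rw [← relIndex_cj x F V, h.cj_F hx, ← inf_relIndex_right (centralizer _) (cj x V)]
    refine Nat.le_of_dvd (Nat.pos_of_ne_zero index_ne_zero_of_finite)
      (relIndex_dvd_of_le_left _ ?_)
    rw [inf_comm]; exact h3
  omega

/-- Lines which do not commute do not normalise each other. -/
theorem norm {x y : G} (hx : x ∈ X) (hy : y ∈ X)
    (hn : ¬ cj x V ≤ centralizer ((cj (g * y) V : Subgroup G) : Set G)) :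
    ¬ cj x V ≤ normalizer ((cj (g * y) V : Subgroup G) : Set G) ∧
      ¬ cj (g * y) V ≤ normalizer ((cj x V : Subgroup G) : Set G) := by
  have hcomm : cj x V ≤ normalizer ((cj (g * y) V : Subgroup G) : Set G) →
      cj (g * y) V ≤ normalizer ((cj x V : Subgroup G) : Set G) → False := fun h1 h2 =>
    hn (comm_of_norm (h.nff.cj _) (h.nff.cj _) (h.cj_sq _) (h.cj_sq _) (cj_cent h.comm) (cj_cent h.comm)
      h1 h2)
  have h1 : cj x V ≤ normalizer ((cj (g * y) V : Subgroup G) : Set G) → False := fun h1 =>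
    hcomm h1 (c.key h hx hy h1)
  refine ⟨h1, fun h2 => ?_⟩
  -- the symmetric statement
  have h3 := cj_norm (g := g⁻¹) h2
  rw [cj_cj, inv_mul_cancel_left, cj_cj] at h3
  have h4 := c.inv.key h hy hx h3
  have h5 := cj_norm (g := g) h4
  rw [cj_cj, mul_inv_cancel_left, cj_cj] at h5
  exact h1 h5

/-- a line `V^x` which does not centralise `U^g` meets `U^g` in a subgroup of `F` -/
theorem inf_le {x : G} (hx : x ∈ X)
    (hn : ¬ cj x V ≤ centralizer ((cj g (cl V X) : Subgroup G) : Set G)) :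
    cj x V ⊓ cj g (cl V X) ≤ F := by
  have h1 : ∃ y ∈ X, ¬ cj x V ≤ centralizer ((cj (g * y) V : Subgroup G) : Set G) := by
    by_contra hcon
    push Not at hcon
    apply hn
    refine cent_symm ?_
    unfold cl
    rw [EZero.cj_iSup]
    refine iSup_le fun y => ?_
    rw [cj_cj]
    exact cent_symm (hcon y y.2)
  obtain ⟨y, hy, hxy⟩ := h1
  have h2 := (c.norm h hx hy hxy).2
  rw [SetLike.not_le_iff_exists] at h2
  obtain ⟨w, hw, hwn⟩ := h2
  have hwU : w ∈ cj g (cl V X) := by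
    have h3 := cj_mono g (cj_le_cl (V := V) hy)
    rw [cj_cj] at h3
    exact h3 hw
  rintro v ⟨hv1, hv2⟩
  refine h.cent_le hx (c.le_X h hwU) hwn hv1 ?_
  exact (mem_centralizer_iff.1 (cj_cent (g := g) h.U_comm hv2) w hwU).symm

/-- `[U, U^g ∩ Q] ≤ F` -/
theorem comm_mem {u e : G} (hu : u ∈ cl V X) (he : e ∈ cj g (cl V X)) (heQ : e ∈ o2 X) : ⁅u, e⁆ ∈ F := by
  let K : Subgroup G :=
    { carrier := {u | u ∈ cl V X ∧ ⁅u, e⁆ ∈ F}
      one_mem' := ⟨one_mem _, by rw [commutatorElement_one_left]; exact one_mem _⟩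
      mul_mem' := by
        rintro a b ⟨ha, ha'⟩ ⟨hb, hb'⟩
        refine ⟨mul_mem ha hb, ?_⟩
        have e1 : ⁅a * b, e⁆ = (a * ⁅b, e⁆ * a⁻¹) * ⁅a, e⁆ := by
          simp only [commutatorElement_def]; group
        have h1 := mem_centralizer_iff.1 (h.X_le (h.U_le_X ha)) _ hb'
        rw [e1, ← h1, mul_inv_cancel_right]
        exact mul_mem hb' ha'
      inv_mem' := by
        rintro a ⟨ha, ha'⟩
        refine ⟨inv_mem ha, ?_⟩
        have e1 : ⁅a⁻¹, e⁆ = a⁻¹ * ⁅a, e⁆⁻¹ * a := by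
          simp only [commutatorElement_def]; group
        have h1 := mem_centralizer_iff.1 (h.X_le (h.U_le_X (inv_mem ha))) _ (inv_mem ha')
        rw [e1, ← h1, mul_assoc, inv_mul_cancel, mul_one]
        exact inv_mem ha' }
  have key : cl V X ≤ K := by
    refine cl_le fun x hx v hv => ⟨cj_le_cl hx hv, ?_⟩
    by_cases hn : cj x V ≤ centralizer ((cj g (cl V X) : Subgroup G) : Set G)
    · have h1 := mem_centralizer_iff.1 (hn hv) e he
      have h2 : ⁅v, e⁆ = 1 := by rw [commutatorElement_eq_one_iff_mul_comm]; exact h1.symm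
      rw [h2]; exact one_mem _
    · refine c.inf_le h hx hn ⟨?_, ?_⟩
      · have h1 := conj_mem' (h.o2_norm_line hx) heQ (inv_mem hv)
        have e1 : ⁅v, e⁆ = v * (e * v⁻¹ * e⁻¹) := by simp only [commutatorElement_def]; group
        rw [e1]
        exact mul_mem hv h1
      · have h1 := conj_mem' (c.U_norm h) (cj_le_cl hx hv) he
        rw [commutatorElement_def]
        exact (cj g (cl V X)).mul_mem h1 ((cj g (cl V X)).inv_mem he)
  exact (key hu).2

omit [Finite G] in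
/-- `F ∩ F^g = 1` -/
theorem inf_F : F ⊓ cj g F = ⊥ := by
  have h1 : ∃ x ∈ X, ¬ cj x V ≤ centralizer ((cj g (cl V X) : Subgroup G) : Set G) := by
    by_contra hcon
    push Not at hcon
    exact c.ncomm (cl_le hcon)
  obtain ⟨x, hx, hn⟩ := h1
  by_contra hne
  apply hn
  refine cent_symm ?_
  unfold cl
  rw [EZero.cj_iSup]
  refine iSup_le fun y => ?_
  rw [cj_cj]
  refine h.ti' fun h0 => hne ?_
  rw [← le_bot_iff, ← h0]
  refine le_inf (inf_le_right.trans ?_) (inf_le_left.trans (h.F_le_line hx))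
  rw [← h.cj_F y.2, cj_cj]
  exact cj_mono _ h.F_le

/-- `[U ∩ Q^g, U^g ∩ Q] = 1` -/
theorem comm_E {u e : G} (hu : u ∈ cl V X) (huQ : u ∈ cj g (o2 X)) (he : e ∈ cj g (cl V X))
    (heQ : e ∈ o2 X) : u * e = e * u := by
  have h1 := c.comm_mem h hu he heQ
  have h2 := c.inv.comm_mem h (u := g⁻¹ * e * g) (e := g⁻¹ * u * g) (mem_cj.1 he) (by
    rw [mem_cj, inv_inv]
    have e1 : g * (g⁻¹ * u * g) * g⁻¹ = u := by group
    rwa [e1]) (mem_cj.1 huQ)
  have h3 : ⁅e, u⁆ ∈ cj g F := by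
    rw [mem_cj]
    have e1 : g⁻¹ * ⁅e, u⁆ * g = ⁅g⁻¹ * e * g, g⁻¹ * u * g⁆ := by
      simp only [commutatorElement_def]; group
    rwa [e1]
  have h4 : ⁅u, e⁆ ∈ F ⊓ cj g F := by
    refine ⟨h1, ?_⟩
    rw [← commutatorElement_inv e u]
    exact (cj g F).inv_mem h3
  rw [c.inf_F h, mem_bot, commutatorElement_eq_one_iff_mul_comm] at h4
  exact h4

end Crit

end Cfsg.Agent.Omega.NO3b.K0
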