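import Cfsg.Agent.Omega.NO3b.K0.Def

/-!
# THEOREM K0: the instance of the abstract situation (leaf 3b-E)

`base_of` : `Hyp S V`, `Flat S V F T`, `Par V F T P` give `Base V F T P L₀ Q₀`, `Q₀ = C_S(V)`, `L₀ = N_G(Q₀)`.
-/

set_option autoImplicit false

namespace Cfsg.Agent.Omega.NO3b.K0

open Subgroup Cfsg Cfsg.Agent.ZN Cfsg.Agent.ZN.ChoiceBase Cfsg.Agent.ZN.ChoiceSit
open Cfsg.Agent.Omega.NO3b.EZero

universe u

variable {G : Type u} [Group G] [Finite G] {S : Sylow 2 G} {V F T P : Subgroup G}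

theorem base_of (h : Hyp S V) (f : Flat S V F T) (p : Par V F T P) :
    Base V F T P (normalizer (((S : Subgroup G) ⊓ centralizer (V : Set G) : Subgroup G) : Set G))
      ((S : Subgroup G) ⊓ centralizer (V : Set G)) where
  sq := h.sq
  comm := h.comm
  nff := h.nff
  F_le := f.F_le
  F_ne := f.F_ne_V
  F_ne_bot := f.ne_bot h
  X_le := p.le
  syl := p.syl f
  mp := p.isMinPar f h
  nle := p.nle
  T_le := f.T_le.trans h.S_le_L0
  L_le := h.L0_le_L
  Q0_le := f.Q0_le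
  L_Q0 := le_rfl
  Q0_cent := inf_le_right
  le_Q0 := fun _ hR h1 h2 => h.le_Q0 hR h1 h2
  V_le := h.V_le_Q0
  line := fun _ hx hxV => p.inf_line f hx hxV
  ti := fun _ hD => h.comm_of_inter' hD
  nonloc := fun _ hR h1 h2 => p.nonloc h hR h1 h2

end Cfsg.Agent.Omega.NO3b.K0
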