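import Cfsg.Agent.Omega.NO3b.EZeroPair
import Cfsg.Agent.Omega.NO3b.CTwo
import Cfsg.Agent.Omega.NO3S.NotFF.Basic

/-!
# THEOREM K0 (helper706, #14028), part 1: the abstract situation

`V` (a line) is normal in `L`, `T ≤ L ∩ X` is a Sylow 2-subgroup of the minimal parabolic `X ≤ C_G(F)`,
`V ∩ V^x = F` for `x ∈ X - N(V)`, `V` is not FF, two conjugates of `V` which meet nontrivially commute, `Q₀ ≤ T`
is the set of 2-elements of `L` which centralise `V`, no nontrivial 2-subgroup is normalised by `L` and `X`.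

* `Base V F T X L Q0` : this situation (no `J`, no `Z`, no characteristic 2);
* `NoOv X` : no over-offenders on the noncentral chief factors of `X`;
* `FullOff T X` : the conclusion of the FF theorem which is used at the end.
-/

set_option autoImplicit false

namespace Cfsg.Agent.Omega.NO3b.K0

open Subgroup Cfsg Cfsg.Agent.ZN Cfsg.Agent.ZN.ChoiceBase Cfsg.Agent.ZN.ChoiceSit
open Cfsg.Agent.MinSimple.MinParabolic (IsMinPar)
open Cfsg.Agent.MinSimple.VModule (oddGen oddGen_le mem_oddGen le_normalizer_oddGen oddGen_le_of_sup)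
open Cfsg.Agent.Omega.NO3b.EZero
open scoped commutatorElement

universe u

variable {G : Type u} [Group G]

/-- The abstract situation of THEOREM K0, (A1)-(A5). -/
structure Base (V F T X L Q0 : Subgroup G) : Prop where
  sq : ∀ v ∈ V, v ^ 2 = 1
  comm : V ≤ centralizer (V : Set G)
  nff : NotFF V
  F_le : F ≤ V
  F_ne : F ≠ V
  F_ne_bot : F ≠ ⊥
  X_le : X ≤ centralizer (F : Set G)
  syl : Syl T X
  mp : IsMinPar T X
  nle : ¬ X ≤ normalizer (V : Set G)
  T_le : T ≤ L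
  L_le : L ≤ normalizer (V : Set G)
  Q0_le : Q0 ≤ T
  L_Q0 : L ≤ normalizer (Q0 : Set G)
  Q0_cent : Q0 ≤ centralizer (V : Set G)
  le_Q0 : ∀ R : Subgroup G, IsPGroup 2 R → R ≤ L → R ≤ centralizer (V : Set G) → R ≤ Q0
  V_le : V ≤ Q0
  line : ∀ x ∈ X, x ∉ normalizer (V : Set G) → V ⊓ cj x V = F
  ti : ∀ g : G, V ⊓ cj g V ≠ ⊥ → V ≤ centralizer ((cj g V : Subgroup G) : Set G)
  nonloc : ∀ R : Subgroup G, IsPGroup 2 R → L ≤ normalizer (R : Set G) → X ≤ normalizer (R : Set G) → R = ⊥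

/-- No over-offenders on the noncentral chief factors `Y / N` of `X` (`Y` an elementary abelian normal subgroup):
`|A : A ∩ O₂(X)| ≤ |Y : D|` for `[D, A] ≤ N`, `A O₂(X) / O₂(X)` elementary abelian. -/
def NoOv (X : Subgroup G) : Prop :=
  ∀ N Y A D : Subgroup G, N ≤ Y → Y ≤ X → (∀ y ∈ Y, y ^ 2 = 1) → Y ≤ centralizer (Y : Set G) →
    X ≤ normalizer (N : Set G) → X ≤ normalizer (Y : Set G) →
    (∀ K : Subgroup G, N ≤ K → K ≤ Y → X ≤ normalizer (K : Set G) → K = N ∨ K = Y) →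
    ¬ ⁅Y, oddGen X⁆ ≤ N → A ≤ X → (∀ a ∈ A, a ^ 2 ∈ o2 X) →
    (∀ a ∈ A, ∀ b ∈ A, a * b * a⁻¹ * b⁻¹ ∈ o2 X) → D ≤ Y → ⁅D, A⁆ ≤ N →
    (o2 X).relIndex A ≤ D.relIndex Y

/-- The consequence of the FF theorem used in the last step: `Y = [Y, O²(X)]` is an elementary abelian normal
subgroup of `X` centralised by `O₂(X)`, its proper `X`-invariant subgroups are centralised by `O²(X)`; if `A ≤ T`
is an exact offender on `Y` and on `Y / C_Y(O²(X))`, then some element of `C_Y(T)` is moved by `O²(X)`. -/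
def FullOff (T X : Subgroup G) : Prop :=
  ∀ Y A : Subgroup G, Y ≤ X → (∀ y ∈ Y, y ^ 2 = 1) → Y ≤ centralizer (Y : Set G) →
    X ≤ normalizer (Y : Set G) → o2 X ≤ centralizer (Y : Set G) → ⁅Y, oddGen X⁆ = Y → Y ≠ ⊥ →
    (∀ K : Subgroup G, K ≤ Y → X ≤ normalizer (K : Set G) → K ≠ Y → K ≤ centralizer (oddGen X : Set G)) →
    A ≤ T → (∀ a ∈ A, a ^ 2 ∈ o2 X) → (∀ a ∈ A, ∀ b ∈ A, a * b * a⁻¹ * b⁻¹ ∈ o2 X) → ¬ A ≤ o2 X →
    (∀ y ∈ Y, (∀ a ∈ A, ⁅y, a⁆ ∈ centralizer (oddGen X : Set G)) → y ∈ centralizer (A : Set G)) →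
    (o2 X).relIndex A = (centralizer (A : Set G)).relIndex Y →
    ∃ y ∈ Y, y ∈ centralizer (T : Set G) ∧ y ∉ centralizer (oddGen X : Set G)

end Cfsg.Agent.Omega.NO3b.K0
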