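import Cfsg.Agent.Omega.NO3b.K0.Of
import Cfsg.Agent.Omega.NO3b.K0.Main
import Cfsg.Agent.Omega.NO3b.K0.Bridge
import Cfsg.Agent.Omega.NO3b.K0.FullOff

/-!
# THEOREM K0 (helper706, #14028) = leaf (3b-E), THEOREM E0: the final form

`J = J(S)`, `V = ⟨Ω₁(Z(S))^{N_G(J)}⟩` is not FF, `V ≤ O₂(C_G(Ω₁(Z(S))))`, `C_G(Ω₁(Z(S))) ≰ N_G(V)`, EMP: contradiction.

* `no_hyp` : from `Hyp S V`, `Emp S V` and the abstract FF theorem;
* `no_emp` : the same with all hypotheses written out.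
-/

set_option autoImplicit false

namespace Cfsg.Agent.Omega.NO3b.K0

open Subgroup Cfsg Cfsg.Agent.ZN Cfsg.Agent.ZN.ChoiceBase Cfsg.Agent.ZN.ChoiceSit
open Cfsg.Agent.Omega.NO3b.EZero

universe u

variable {G : Type u} [Group G] [Finite G] {S : Sylow 2 G} {V : Subgroup G}

/-- **THEOREM K0.** -/
theorem no_hyp (hA : FFBr.AStmt.{u}) (h : Hyp S V) (he : Emp S V) : False := by
  obtain ⟨F, T, f⟩ := h.exists_flat
  obtain ⟨P, p⟩ := f.exists_par h
  exact (base_of h f p).absurd (noOv hA (p.syl f) (p.isMinPar f h)) (fullOff hA (p.syl f) (p.isMinPar f h))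
    (p.cent_T_le f h he)

/-- **THEOREM K0**, all hypotheses written out. -/
theorem no_emp (hA : FFBr.AStmt.{u})
    (h1 : V = zl (S : Subgroup G) (normalizer ((jj (S : Subgroup G) : Subgroup G) : Set G)))
    (h2 : NotFF V) (h3 : Emp S V)
    (h4 : ∀ H : Subgroup G, IsTwoLocal H → (S : Subgroup G) ≤ H →
      jj (S : Subgroup G) ≤ centralizer ((zl (S : Subgroup G) H : Subgroup G) : Set G))
    (h5 : V ≤ o2 (centralizer (zc (S : Subgroup G) : Set G)))
    (h6 : ¬ centralizer (zc (S : Subgroup G) : Set G) ≤ normalizer (V : Set G)) : False :=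
  no_hyp hA (Hyp.of_emp h1 h2 h3 h4 h5 h6) h3

end Cfsg.Agent.Omega.NO3b.K0
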